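import Mathlib
import Groth.Prelude.Def_Flat
import Groth.Agent.TopDimLib.Basic
import Groth.Agent.DimTheory.Algebra
import Groth.Agent.Hensel.AwayNbhd

/-!
# Relative dimension and quasi-finite maps from polynomial rings
-/

set_option autoImplicit false
universe u

open TensorProduct

namespace Groth.Agent.RelDim

lemma dim_away {F : Type u} [CommRing F] (h : F) :
    ringKrullDim (Localization.Away h) = topologicalKrullDim (PrimeSpectrum.basicOpen h : Set (PrimeSpectrum F)) := by
  let e := (PrimeSpectrum.localization_away_isOpenEmbedding (Localization.Away h) h).isEmbedding.toHomeomorph.trans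
    (Homeomorph.setCongr (PrimeSpectrum.localization_away_comap_range (Localization.Away h) h))
  rw [← PrimeSpectrum.topologicalKrullDim_eq_ringKrullDim]
  exact e.isHomeomorph.topologicalKrullDim_eq _

lemma basicOpen_unit_mul {F : Type u} [CommRing F] {u : F} (hu : IsUnit u) (h : F) :
    PrimeSpectrum.basicOpen (u * h) = PrimeSpectrum.basicOpen h := by
  refine SetLike.ext fun z => ?_
  simp [PrimeSpectrum.mem_basicOpen, Ideal.unit_mul_mem_iff_mem _ hu]

variable {R S : Type u} [CommRing R] [CommRing S] [Algebra R S] (p : Ideal R) [p.IsPrime]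

/-- the fibre of a basic open -/
lemma dim_fiber_away (g : S) :
    ringKrullDim (p.Fiber (Localization.Away g)) =
      topologicalKrullDim (PrimeSpectrum.basicOpen ((1 : p.ResidueField) ⊗ₜ[R] g) : Set (PrimeSpectrum (p.Fiber S))) := by
  rw [← dim_away]
  exact ringKrullDim_eq_of_ringEquiv
    (IsLocalization.Away.tensorProductEquivTMulRight R p.ResidueField g (Localization.Away g)).toRingEquiv

lemma dim_fiber_mvPolynomial (n : ℕ) : ringKrullDim (p.Fiber (MvPolynomial (Fin n) R)) = n := by
  rw [ringKrullDim_eq_of_ringEquiv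
    (MvPolynomial.algebraTensorAlgEquiv (σ := Fin n) R p.ResidueField).toRingEquiv,
    MvPolynomial.ringKrullDim_of_isNoetherianRing, ringKrullDim_eq_zero_of_field]
  simp

/-- the local dimension of a fibre is at most `n` where a quasi-finite map from `R[t₁,…,tₙ]` exists -/
theorem localDim_le {n : ℕ} (g : S) (φ : MvPolynomial (Fin n) R →ₐ[R] Localization.Away g)
    (hφ : φ.toRingHom.QuasiFinite) (Q : PrimeSpectrum (p.Fiber S))
    (hQ : g ∉ Q.asIdeal.comap (Algebra.TensorProduct.includeRight : S →ₐ[R] p.Fiber S).toRingHom) :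
    FlatMor.localDim (PrimeSpectrum (p.Fiber S)) Q ≤ (n : WithBot ℕ∞) := by
  let P := MvPolynomial (Fin n) R
  let T := Localization.Away g
  letI : Algebra P T := φ.toRingHom.toAlgebra
  haveI : Algebra.QuasiFinite P T := hφ
  haveI : IsScalarTower R P T := IsScalarTower.of_algHom φ
  have hmem : Q ∈ PrimeSpectrum.basicOpen ((1 : p.ResidueField) ⊗ₜ[R] g) := hQ
  refine (TopDimLib.localDim_le hmem).trans ?_
  rw [← dim_fiber_away, ← dim_fiber_mvPolynomial p n]
  let eT := PrimeSpectrum.preimageOrderIsoFiber R T ⟨p, inferInstance⟩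
  let eP := PrimeSpectrum.preimageOrderIsoFiber R P ⟨p, inferInstance⟩
  let c : (PrimeSpectrum.comap (algebraMap R T) ⁻¹' {⟨p, inferInstance⟩}) →
      (PrimeSpectrum.comap (algebraMap R P) ⁻¹' {⟨p, inferInstance⟩}) := fun q => ⟨PrimeSpectrum.comap (algebraMap P T) q.1, by
    rw [Set.mem_preimage, ← PrimeSpectrum.comap_comp_apply, ← IsScalarTower.algebraMap_eq]
    exact q.2⟩
  have hc : StrictMono c := fun a b hab => by
    have hle : (c a).1.asIdeal ≤ (c b).1.asIdeal := Ideal.comap_mono hab.le
    refine lt_of_le_of_ne hle fun e => hab.ne ?_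
    exact Subtype.ext (PrimeSpectrum.ext (Algebra.QuasiFinite.eq_of_le_of_under_eq (R := P) a.1.asIdeal b.1.asIdeal
      hab.le (congrArg (fun z => z.1.asIdeal) e)))
  exact Order.krullDim_le_of_strictMono _ ((eP.strictMono.comp hc).comp eT.symm.strictMono)

/-- a quasi-finite map from `R[t₁,…,tₙ]` near a point of a fibre of local dimension `n` -/
theorem exists_quasiFinite [Algebra.FiniteType R S] (q : Ideal S) [q.IsPrime] (Q : PrimeSpectrum (p.Fiber S))
    (hQ : Q.asIdeal.comap (Algebra.TensorProduct.includeRight : S →ₐ[R] p.Fiber S).toRingHom = q) (n : ℕ)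
    (hdim : FlatMor.localDim (PrimeSpectrum (p.Fiber S)) Q = (n : WithBot ℕ∞)) :
    ∃ g : S, g ∉ q ∧ ∃ φ : MvPolynomial (Fin n) R →ₐ[R] Localization.Away g,
      φ.toRingHom.FiniteType ∧ φ.toRingHom.QuasiFinite := by
  classical
  obtain ⟨U, hQU, hU⟩ := TopDimLib.exists_localDim_eq Q
  obtain ⟨_, ⟨h, rfl⟩, hQh, hsub⟩ :=
    PrimeSpectrum.isTopologicalBasis_basic_opens.exists_subset_of_mem_open hQU U.2
  have hqR : q.under R = p := by
    rw [← hQ]
    exact congrArg PrimeSpectrum.asIdeal ((PrimeSpectrum.preimageOrderIsoFiber R S ⟨p, inferInstance⟩).symm Q).2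
  obtain ⟨r, hr, s0, hs0⟩ := Ideal.Fiber.exists_smul_eq_one_tmul _ h
  have hru : IsUnit (algebraMap R p.ResidueField r) :=
    Ne.isUnit fun h0 => hr (Ideal.algebraMap_residueField_eq_zero.1 h0)
  have hbo : PrimeSpectrum.basicOpen ((1 : p.ResidueField) ⊗ₜ[R] s0) = PrimeSpectrum.basicOpen h := by
    rw [← hs0, Algebra.smul_def]
    refine basicOpen_unit_mul ?_ h
    rw [IsScalarTower.algebraMap_apply R p.ResidueField (p.Fiber S)]
    exact hru.map _
  have hdimF : ringKrullDim (p.Fiber (Localization.Away s0)) = n := by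
    rw [dim_fiber_away, hbo]
    exact le_antisymm ((TopDimLib.dim_subtype_mono hsub).trans_eq (hU.trans hdim))
      (hdim ▸ TopDimLib.localDim_le (U := PrimeSpectrum.basicOpen h) hQh)
  let S' := Localization.Away s0
  have : Algebra.FiniteType S S' := IsLocalization.finiteType_of_monoid_fg (Submonoid.powers s0) _
  have : Algebra.FiniteType R S' := Algebra.FiniteType.trans (S := S) ‹_› ‹_›
  have : Nontrivial (p.Fiber S') := by
    by_contra hn
    rw [not_nontrivial_iff_subsingleton] at hn
    rw [ringKrullDim_eq_bot_of_subsingleton] at hdimF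
    exact WithBot.bot_ne_coe hdimF
  obtain ⟨n', gN, -, hgN, hn'⟩ := DimTheory.exists_normalization p.ResidueField (p.Fiber S')
  obtain rfl : n = n' := by
    have := hdimF.symm.trans hn'
    exact_mod_cast this
  choose c hc x hx using fun i : Fin n => Ideal.Fiber.exists_smul_eq_one_tmul _ (gN (MvPolynomial.X i))
  let P := MvPolynomial (Fin n) R
  let φ : P →ₐ[R] S' := MvPolynomial.aeval x
  -- the map on fibres is finite
  let φF : p.Fiber P →ₐ[p.ResidueField] p.Fiber S' :=
    Algebra.TensorProduct.map (AlgHom.id p.ResidueField p.ResidueField) φ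
  have hφF : φF.Finite := by
    let σ : MvPolynomial (Fin n) p.ResidueField →ₐ[p.ResidueField] p.Fiber P := MvPolynomial.aeval fun i =>
      (algebraMap R p.ResidueField (c i))⁻¹ ⊗ₜ[R] MvPolynomial.X i
    have e : φF.comp σ = gN := by
      refine MvPolynomial.algHom_ext fun i => ?_
      rw [AlgHom.comp_apply, MvPolynomial.aeval_X]
      show (algebraMap R p.ResidueField (c i))⁻¹ ⊗ₜ[R] φ (MvPolynomial.X i) = _
      rw [MvPolynomial.aeval_X, ← mul_one (algebraMap R p.ResidueField (c i))⁻¹, ← smul_eq_mul, ← smul_tmul',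
        ← hx i, ← algebraMap_smul p.ResidueField (c i), smul_smul, inv_mul_cancel₀, one_smul]
      exact fun h0 => hc i (Ideal.algebraMap_residueField_eq_zero.1 h0)
    exact AlgHom.Finite.of_comp_finite (e ▸ hgN)
  letI : Algebra P S' := φ.toRingHom.toAlgebra
  haveI : IsScalarTower R P S' := IsScalarTower.of_algHom φ
  haveI : Algebra.FiniteType P S' := Algebra.FiniteType.of_restrictScalars_finiteType R P S'
  letI : Algebra (p.Fiber P) (p.Fiber S') := φF.toRingHom.toAlgebra
  haveI : Module.Finite (p.Fiber P) (p.Fiber S') := hφF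
  -- the prime of `S'` over `q`
  have hs0q : s0 ∉ q := fun hm => by
    have : Q ∈ PrimeSpectrum.basicOpen ((1 : p.ResidueField) ⊗ₜ[R] s0) := hbo ▸ hQh
    exact this (by rw [← hQ] at hm; exact hm)
  have hd : Disjoint (Submonoid.powers s0 : Set S) (q : Set S) :=
    (Ideal.disjoint_powers_iff_notMem_of_isPrime _).mpr hs0q
  let q' := q.map (algebraMap S S')
  have hq'p : q'.IsPrime := IsLocalization.isPrime_of_isPrime_disjoint (.powers s0) S' q ‹_› hd
  have hq'c : q'.under S = q := IsLocalization.under_map_of_isPrime_disjoint (.powers s0) S' ‹q.IsPrime› hd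
  have hq'R : q'.under R = p := by
    rw [← Ideal.under_under (B := S) q', hq'c, hqR]
  let eS' := PrimeSpectrum.preimageOrderIsoFiber R S' ⟨p, inferInstance⟩
  let eP := PrimeSpectrum.preimageOrderIsoFiber R P ⟨p, inferInstance⟩
  have hcomap : ∀ Q' : PrimeSpectrum (p.Fiber S'),
      PrimeSpectrum.comap (algebraMap P S') (eS'.symm Q').1 =
        (eP.symm (PrimeSpectrum.comap (algebraMap (p.Fiber P) (p.Fiber S')) Q')).1 := fun Q' => by
    refine PrimeSpectrum.ext ?_
    show Ideal.comap (algebraMap P S') (Ideal.comap _ Q'.asIdeal) = Ideal.comap _ (Ideal.comap _ Q'.asIdeal)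
    rw [Ideal.comap_comap, Ideal.comap_comap]
    congr 1
  let x' : PrimeSpectrum S' := ⟨q', hq'p⟩
  let y := PrimeSpectrum.comap (algebraMap P S') x'
  have hyp : PrimeSpectrum.comap (algebraMap R P) y = ⟨p, inferInstance⟩ := by
    refine PrimeSpectrum.ext ?_
    show Ideal.comap _ (Ideal.comap _ q') = p
    rw [Ideal.comap_comap, ← IsScalarTower.algebraMap_eq]
    exact hq'R
  let Fib := PrimeSpectrum.comap (algebraMap P S') ⁻¹' {y}
  have hover : ∀ z : Fib, z.1 ∈ PrimeSpectrum.comap (algebraMap R S') ⁻¹' {⟨p, inferInstance⟩} := fun z => by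
    rw [Set.mem_preimage, Set.mem_singleton_iff, ← hyp, ← (z.2 : PrimeSpectrum.comap (algebraMap P S') z.1 = y),
      ← PrimeSpectrum.comap_comp_apply, ← IsScalarTower.algebraMap_eq]
  let ι : Fib → PrimeSpectrum (p.Fiber S') := fun z => eS' ⟨z.1, hover z⟩
  have hι : Function.Injective ι := fun a b hab => Subtype.ext (congrArg (fun z => z.1) (eS'.injective hab))
  have hιF : ∀ z : Fib, PrimeSpectrum.comap (algebraMap (p.Fiber P) (p.Fiber S')) (ι z) = eP ⟨y, hyp⟩ := fun z => by
    refine eP.symm.injective (Subtype.ext ?_)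
    rw [← hcomap, OrderIso.symm_apply_apply, OrderIso.symm_apply_apply]
    exact z.2
  have hfin : Finite Fib := by
    have := (Algebra.QuasiFinite.finite_comap_preimage_singleton (R := p.Fiber P) (S := p.Fiber S') (eP ⟨y, hyp⟩)).to_subtype
    exact Finite.of_injective (fun z => (⟨ι z, hιF z⟩ :
      (PrimeSpectrum.comap (algebraMap (p.Fiber P) (p.Fiber S')) ⁻¹' {eP ⟨y, hyp⟩} : Set _)))
      fun a b h => hι (congrArg Subtype.val h)
  have : T1Space Fib := by
    rw [t1Space_iff_specializes_imp_eq]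
    intro a b hab
    have hle : a.1 ≤ b.1 := (PrimeSpectrum.le_iff_specializes _ _).2 (hab.map continuous_subtype_val)
    refine hι (PrimeSpectrum.ext (Algebra.QuasiFinite.eq_of_le_of_under_eq (R := p.Fiber P) (ι a).asIdeal
      (ι b).asIdeal (eS'.monotone hle) ?_))
    exact congrArg PrimeSpectrum.asIdeal ((hιF a).trans (hιF b).symm)
  have hqf : Algebra.QuasiFiniteAt P q' :=
    Algebra.QuasiFiniteAt.of_isOpen_singleton_fiber x' (isOpen_discrete _)
  obtain ⟨_, ⟨g1, rfl⟩, hg1, hg1sub⟩ := PrimeSpectrum.isTopologicalBasis_basic_opens.exists_subset_of_mem_open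
    (show x' ∈ {z : PrimeSpectrum S' | Algebra.QuasiFiniteAt P z.asIdeal} from hqf) Hensel.isOpen_quasiFiniteAt
  obtain ⟨a, ⟨_, k, rfl⟩, ha⟩ := IsLocalization.exists_mk'_eq (Submonoid.powers s0) g1
  have hbo' : PrimeSpectrum.basicOpen (algebraMap S S' a) = PrimeSpectrum.basicOpen g1 := by
    rw [← ha, ← IsLocalization.mk'_spec (M := Submonoid.powers s0) S' a ⟨s0 ^ k, k, rfl⟩, mul_comm]
    exact basicOpen_unit_mul (IsLocalization.map_units S' (⟨s0 ^ k, k, rfl⟩ : Submonoid.powers s0)) _
  have haq : a ∉ q := fun hm => by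
    have : x' ∈ PrimeSpectrum.basicOpen (algebraMap S S' a) := hbo' ▸ hg1
    exact this (Ideal.mem_map_of_mem _ hm)
  let a' := algebraMap S S' a
  have hQF : Algebra.QuasiFinite P (Localization.Away a') := Hensel.quasiFinite_away_of_forall a' fun z =>
    hg1sub (show PrimeSpectrum.comap (algebraMap S' (Localization.Away a')) z ∈ PrimeSpectrum.basicOpen g1 by
      rw [← hbo']
      exact (PrimeSpectrum.localization_away_comap_range (Localization.Away a') a').le ⟨z, rfl⟩)
  let e : Localization.Away a' ≃ₐ[S] Localization.Away (s0 * a) :=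
    IsLocalization.algEquiv (Submonoid.powers (s0 * a)) _ _
  let φ2 : P →ₐ[R] Localization.Away (s0 * a) :=
    ((e.toAlgHom.restrictScalars R).comp (IsScalarTower.toAlgHom R S' (Localization.Away a'))).comp φ
  refine ⟨s0 * a, fun h => (‹q.IsPrime›.mem_or_mem h).elim hs0q haq, φ2, ?_, ?_⟩
  · have h1 : (algebraMap R (Localization.Away (s0 * a))).FiniteType := by
      rw [RingHom.finiteType_algebraMap]
      exact Algebra.FiniteType.trans (S := S) ‹_› (IsLocalization.finiteType_of_monoid_fg (Submonoid.powers (s0 * a)) _)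
    rw [← φ2.comp_algebraMap] at h1
    exact RingHom.FiniteType.of_comp_finiteType h1
  · letI : Algebra P (Localization.Away (s0 * a)) := φ2.toRingHom.toAlgebra
    exact (Algebra.QuasiFinite.iff_of_algEquiv (AlgEquiv.ofRingEquiv (f := e.toRingEquiv) fun _ => rfl :
      Localization.Away a' ≃ₐ[P] Localization.Away (s0 * a))).1 hQF

end Groth.Agent.RelDim
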