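import Mathlib
import Groth.Prelude.Def_Flat
import Groth.Agent.RelDim.Basic
import Groth.Agent.FieldExtLD.Scheme

/-!
# Openness and quasi-compactness of the locus of bounded relative dimension
-/

set_option autoImplicit false
universe u

open TensorProduct

namespace Groth.Agent.RelDim

variable (R S : Type u) [CommRing R] [CommRing S] [Algebra R S]

/-- primes at which the fibre has local dimension at most `n` -/
def dimLocus (n : ℕ) : Set (PrimeSpectrum S) :=
  {q : PrimeSpectrum S | ∀ Q : PrimeSpectrum ((q.asIdeal.under R).Fiber S),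
    Q.asIdeal.comap (Algebra.TensorProduct.includeRight.toRingHom) = q.asIdeal →
      FlatMor.localDim (PrimeSpectrum ((q.asIdeal.under R).Fiber S)) Q ≤ (n : WithBot ℕ∞)}

lemma exists_fibre_point (q : PrimeSpectrum S) : ∃ Q : PrimeSpectrum ((q.asIdeal.under R).Fiber S),
    Q.asIdeal.comap (Algebra.TensorProduct.includeRight.toRingHom) = q.asIdeal :=
  ⟨PrimeSpectrum.preimageOrderIsoFiber R S ⟨q.asIdeal.under R, inferInstance⟩ ⟨q, rfl⟩,
    congrArg (fun z => z.1.asIdeal) ((PrimeSpectrum.preimageOrderIsoFiber R S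
      ⟨q.asIdeal.under R, inferInstance⟩).symm_apply_apply ⟨q, rfl⟩)⟩

theorem isOpen_dimLocus [Algebra.FiniteType R S] (n : ℕ) : IsOpen (dimLocus R S n) := by
  rw [isOpen_iff_forall_mem_open]
  intro q hq
  obtain ⟨Q, hQ⟩ := exists_fibre_point R S q
  have hle := hq Q hQ
  obtain ⟨m, hm, hmn⟩ : ∃ m : ℕ, FlatMor.localDim (PrimeSpectrum ((q.asIdeal.under R).Fiber S)) Q = m ∧ m ≤ n := by
    obtain ⟨U, hQU, hU⟩ := TopDimLib.exists_localDim_eq Q
    have h0 : (0 : WithBot ℕ∞) ≤ FlatMor.localDim (PrimeSpectrum ((q.asIdeal.under R).Fiber S)) Q := by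
      rw [← hU]
      have : Nonempty (U : Set (PrimeSpectrum ((q.asIdeal.under R).Fiber S))) := ⟨⟨Q, hQU⟩⟩
      have : Nonempty (TopologicalSpace.IrreducibleCloseds (U : Set (PrimeSpectrum ((q.asIdeal.under R).Fiber S)))) :=
        ⟨⟨closure {⟨Q, hQU⟩}, isIrreducible_singleton.closure, isClosed_closure⟩⟩
      exact Order.krullDim_nonneg
    generalize FlatMor.localDim (PrimeSpectrum ((q.asIdeal.under R).Fiber S)) Q = d at h0 hle
    induction d with
    | bot => exact absurd h0 (by simp)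
    | coe d =>
      induction d using ENat.recTopCoe with
      | top => exact absurd (WithBot.coe_le_coe.1 hle) (by simp)
      | coe d => exact ⟨d, rfl, by exact_mod_cast hle⟩
  obtain ⟨g, hg, φ, -, hφ⟩ := exists_quasiFinite (q.asIdeal.under R) q.asIdeal Q hQ m hm
  refine ⟨PrimeSpectrum.basicOpen g, fun q1 hq1 Q1 hQ1 => ?_, (PrimeSpectrum.basicOpen g).2, hg⟩
  exact (localDim_le (q1.asIdeal.under R) g φ hφ Q1 (by rw [hQ1]; exact hq1)).trans (by exact_mod_cast hmn)

/-- the locus is compatible with base change -/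
theorem mem_dimLocus_iff (R0 S0 : Type u) [CommRing R0] [CommRing S0] [Algebra R0 S0] [Algebra.FiniteType R0 S0]
    [Algebra R0 R] [Algebra R0 S] [IsScalarTower R0 R S] (e : R ⊗[R0] S0 ≃ₐ[R] S) (n : ℕ) (q : PrimeSpectrum S) :
    q ∈ dimLocus R S n ↔ PrimeSpectrum.comap
      (((e.toAlgHom.restrictScalars R0).comp Algebra.TensorProduct.includeRight).toRingHom) q ∈ dimLocus R0 S0 n := by
  let f : S0 →+* S := ((e.toAlgHom.restrictScalars R0).comp Algebra.TensorProduct.includeRight).toRingHom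
  let p := q.asIdeal.under R
  let q0 := PrimeSpectrum.comap f q
  let p0 := q0.asIdeal.under R0
  have hpp : p.under R0 = p0 := by
    show (q.asIdeal.comap (algebraMap R S)).comap (algebraMap R0 R) = (q.asIdeal.comap f).comap (algebraMap R0 S0)
    rw [Ideal.comap_comap, Ideal.comap_comap]
    congr 1
    rw [← IsScalarTower.algebraMap_eq]
    exact ((e.toAlgHom.restrictScalars R0).comp Algebra.TensorProduct.includeRight).comp_algebraMap.symm
  let κ := p.ResidueField
  let κ0 := p0.ResidueField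
  letI : Algebra κ0 κ := (Ideal.ResidueField.map p0 p (algebraMap R0 R) hpp.symm).toAlgebra
  haveI : IsScalarTower R0 κ0 κ := IsScalarTower.of_algebraMap_eq fun a => by
    rw [RingHom.algebraMap_toAlgebra, Ideal.ResidueField.map_algebraMap, ← IsScalarTower.algebraMap_apply]
  let E : p.Fiber S ≃+* κ ⊗[κ0] (p0.Fiber S0) :=
    ((Algebra.TensorProduct.congr (R := R) (AlgEquiv.refl : κ ≃ₐ[R] κ) e.symm).toRingEquiv.trans
      (Algebra.TensorProduct.cancelBaseChange R0 R κ κ S0).toRingEquiv).trans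
      (Algebra.TensorProduct.cancelBaseChange R0 κ0 κ κ S0).symm.toRingEquiv
  have hE : ∀ s : S0, E.symm (1 ⊗ₜ (1 ⊗ₜ s)) = 1 ⊗ₜ f s := fun s => by
    rw [RingEquiv.symm_apply_eq]
    simp [E, f]
  have hiff : ∀ Q : PrimeSpectrum (p.Fiber S), Q.asIdeal.comap Algebra.TensorProduct.includeRight.toRingHom = q.asIdeal →
      ∃ Q0 : PrimeSpectrum (p0.Fiber S0), Q0.asIdeal.comap Algebra.TensorProduct.includeRight.toRingHom = q0.asIdeal ∧
        FlatMor.localDim (PrimeSpectrum (p.Fiber S)) Q = FlatMor.localDim (PrimeSpectrum (p0.Fiber S0)) Q0 := by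
    intro Q hQ
    let Q' : PrimeSpectrum (κ ⊗[κ0] p0.Fiber S0) := PrimeSpectrum.homeomorphOfRingEquiv (R := p.Fiber S) (S := κ ⊗[κ0] p0.Fiber S0) E Q
    refine ⟨PrimeSpectrum.comap (Algebra.TensorProduct.includeRight : p0.Fiber S0 →ₐ[κ0] κ ⊗[κ0] (p0.Fiber S0)).toRingHom Q', ?_, ?_⟩
    · ext s
      show E.symm (1 ⊗ₜ (1 ⊗ₜ s)) ∈ Q.asIdeal ↔ f s ∈ q.asIdeal
      rw [hE]
      exact Iff.of_eq (congrArg (fun J : Ideal S => f s ∈ J) hQ)
    · have h1 := FieldExtLD.localDim_tensor Q'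
      have h2 := FieldExtLD.localDim_of_isOpenEmbedding (PrimeSpectrum.homeomorphOfRingEquiv (R := p.Fiber S) (S := κ ⊗[κ0] p0.Fiber S0) E).isOpenEmbedding Q
      exact h2.symm.trans h1
  constructor
  · intro hq Q0 hQ0
    obtain ⟨Q, hQ⟩ := exists_fibre_point R S q
    obtain ⟨Q0', hQ0', he⟩ := hiff Q hQ
    have : Q0 = Q0' := by
      apply (PrimeSpectrum.preimageOrderIsoFiber R0 S0 ⟨p0, inferInstance⟩).symm.injective
      exact Subtype.ext (PrimeSpectrum.ext (hQ0.trans hQ0'.symm))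
    rw [this]
    exact he ▸ hq Q hQ
  · intro hq Q hQ
    obtain ⟨Q0', hQ0', he⟩ := hiff Q hQ
    exact he ▸ hq Q0' hQ0'

theorem isCompact_dimLocus [Algebra.FinitePresentation R S] (n : ℕ) : IsCompact (dimLocus R S n) := by
  classical
  let P := Algebra.Presentation.ofFinitePresentation R S
  let R0 := P.Core
  let S0 := P.ModelOfHasCoeffs R0
  have : IsNoetherianRing R0 := Algebra.FiniteType.isNoetherianRing ℤ R0
  have : Algebra.FiniteType R0 S0 := inferInstance
  have : IsNoetherianRing S0 := Algebra.FiniteType.isNoetherianRing R0 S0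
  let e : R ⊗[R0] S0 ≃ₐ[R] S := P.tensorModelOfHasCoeffsEquiv R0
  let f : S0 →+* S := ((e.toAlgHom.restrictScalars R0).comp Algebra.TensorProduct.includeRight).toRingHom
  have key : ∀ q : PrimeSpectrum S, q ∈ dimLocus R S n ↔ PrimeSpectrum.comap f q ∈ dimLocus R0 S0 n :=
    mem_dimLocus_iff R S R0 S0 e n
  have hc : IsCompact (dimLocus R0 S0 n) := TopologicalSpace.NoetherianSpace.isCompact _
  obtain ⟨t, ht⟩ := PrimeSpectrum.isCompact_isOpen_iff.1 ⟨hc, isOpen_dimLocus R0 S0 n⟩
  have : dimLocus R S n = (PrimeSpectrum.zeroLocus ((t.image f : Finset S) : Set S))ᶜ := by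
    ext q
    rw [key q, ← ht]
    simp [PrimeSpectrum.mem_zeroLocus, Set.subset_def]
  exact (PrimeSpectrum.isCompact_isOpen_iff.2 ⟨t.image f, this.symm⟩).1

end Groth.Agent.RelDim
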